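import Mathlib.LinearAlgebra.FiniteDimensional.Basic
import Mathlib.LinearAlgebra.FiniteDimensional.Lemmas
import Mathlib.LinearAlgebra.Dimension.Finrank
import Mathlib.Algebra.Algebra.Hom
import Mathlib.Tactic.LinearCombination
import Mathlib.Tactic.Ring

/-!
# Endomorphisms of quadratic field extensions
-/

set_option autoImplicit false
universe u v

namespace K423.QuadAlg

/-- A field extension of degree two has at most one endomorphism other than the identity. -/
theorem algHom_unique {K : Type u} {L : Type v} [Field K] [Field L] [Algebra K L]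
    (h2 : Module.finrank K L = 2) (φ ψ : L →ₐ[K] L) (hφ : φ ≠ AlgHom.id K L)
    (hψ : ψ ≠ AlgHom.id K L) : φ = ψ := by
  -- an element outside of `K`
  obtain ⟨a, ha⟩ : ∃ a : L, ∀ c : K, algebraMap K L c ≠ a := by
    by_contra hcon
    push Not at hcon
    have h1 : Module.finrank K L ≤ 1 := finrank_le_one (1 : L) fun w => by
      obtain ⟨c, hc⟩ := hcon w
      exact ⟨c, by rw [Algebra.smul_def, mul_one, hc]⟩
    omega
  have hli : LinearIndependent K ![(1 : L), a] := by
    rw [LinearIndependent.pair_iff]
    intro s t hst
    by_cases ht : t = 0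
    · subst ht
      rw [zero_smul, add_zero, Algebra.smul_def, mul_one] at hst
      exact ⟨(map_eq_zero _).1 hst, rfl⟩
    · exfalso
      refine ha (-s / t) ?_
      rw [Algebra.smul_def, Algebra.smul_def, mul_one] at hst
      have ht' : algebraMap K L t ≠ 0 := (map_ne_zero _).2 ht
      rw [map_div₀, map_neg, div_eq_iff ht']
      linear_combination -hst
  have hspan : ∀ x : L, ∃ s t : K, x = algebraMap K L s + algebraMap K L t * a := by
    intro x
    have : FiniteDimensional K L := Module.finite_of_finrank_pos (by omega)
    have h1 := hli.span_eq_top_of_card_eq_finrank (by simp [h2])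
    have h3 : x ∈ Submodule.span K (Set.range ![(1 : L), a]) := h1 ▸ Submodule.mem_top
    rw [Matrix.range_cons, Matrix.range_cons, Matrix.range_empty, Set.union_empty,
      Set.singleton_union, Submodule.mem_span_pair] at h3
    obtain ⟨s, t, h4⟩ := h3
    exact ⟨s, t, by rw [← h4, Algebra.smul_def, Algebra.smul_def, mul_one]⟩
  obtain ⟨b, c, hbc⟩ := hspan (a * a)
  have key : ∀ χ : L →ₐ[K] L, χ ≠ AlgHom.id K L → χ a = algebraMap K L c - a := by
    intro χ hχ
    have h1 : χ a ≠ a := by
      intro h
      apply hχ
      ext x
      obtain ⟨s, t, rfl⟩ := hspan x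
      simp [h]
    have h3 : χ a * χ a = algebraMap K L b + algebraMap K L c * χ a := by
      have := congrArg χ hbc
      simpa using this
    have h4 : (χ a - a) * (χ a + a - algebraMap K L c) = 0 := by
      linear_combination h3 - hbc
    rcases mul_eq_zero.1 h4 with h5 | h5
    · exact absurd (sub_eq_zero.1 h5) h1
    · linear_combination h5
  ext x
  obtain ⟨s, t, rfl⟩ := hspan x
  simp [key φ hφ, key ψ hψ]

end K423.QuadAlg
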