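import Groth.Agent.Grpsch.FinrankGen
import Groth.Agent.Curves.K423.QuadAlg
import Groth.Agent.EGA2.K33.NormField
import Mathlib.AlgebraicGeometry.Morphisms.Separated
import Mathlib.AlgebraicGeometry.Morphisms.Finite
import Mathlib.AlgebraicGeometry.Morphisms.Flat
import Mathlib.AlgebraicGeometry.Morphisms.UniversallyClosed
import Mathlib.AlgebraicGeometry.Morphisms.UniversallyOpen
import Mathlib.AlgebraicGeometry.FunctionField

/-!
# Morphisms of integral schemes and function fields; endomorphisms of double covers

* `ff`: the map on function fields of a dominant morphism.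
* `eq_of_ff_eq`: a morphism to a separated scheme is determined by its map on function fields.
* `endo_unique`: a finite flat morphism of integral schemes of rank two has at most one endomorphism
  over the target other than the identity.
-/

set_option autoImplicit false
universe u
open CategoryTheory CategoryTheory.Limits AlgebraicGeometry TopologicalSpace

namespace K423.FF

section ff

variable {X Y Z : Scheme.{u}} [IrreducibleSpace X] [IrreducibleSpace Y] [IrreducibleSpace Z]

/-- The map on function fields induced by a dominant morphism. -/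
noncomputable def ff (f : X ⟶ Y) (e : f (genericPoint X) = genericPoint Y) :
    Y.presheaf.stalk (genericPoint Y) ⟶ X.presheaf.stalk (genericPoint X) :=
  Y.presheaf.stalkSpecializes (specializes_of_eq e) ≫ f.stalkMap (genericPoint X)

theorem spec_ff (f : X ⟶ Y) (e : f (genericPoint X) = genericPoint Y) :
    Spec.map (ff f e) ≫ Y.fromSpecStalk (genericPoint Y) = X.fromSpecStalk (genericPoint X) ≫ f := by
  rw [ff, Spec.map_comp, Category.assoc, Scheme.SpecMap_stalkSpecializes_fromSpecStalk,
    Scheme.SpecMap_stalkMap_fromSpecStalk]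

theorem eq_ff (f : X ⟶ Y) (e : f (genericPoint X) = genericPoint Y)
    (φ : Y.presheaf.stalk (genericPoint Y) ⟶ X.presheaf.stalk (genericPoint X))
    (h : Spec.map φ ≫ Y.fromSpecStalk (genericPoint Y) = X.fromSpecStalk (genericPoint X) ≫ f) :
    φ = ff f e := by
  apply Spec.map_injective
  rw [← cancel_mono (Y.fromSpecStalk (genericPoint Y)), h, spec_ff]

theorem ff_id : ff (𝟙 X) rfl = 𝟙 _ := by
  symm
  apply eq_ff
  simp

theorem ff_comp (f : X ⟶ Y) (e : f (genericPoint X) = genericPoint Y) (g : Y ⟶ Z)
    (e' : g (genericPoint Y) = genericPoint Z) (h : X ⟶ Z) (eh : h (genericPoint X) = genericPoint Z)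
    (hh : f ≫ g = h) : ff g e' ≫ ff f e = ff h eh := by
  apply eq_ff
  rw [Spec.map_comp, Category.assoc, spec_ff, ← Category.assoc, spec_ff, Category.assoc, hh]

end ff

/-- Morphisms over a base to a separated scheme agreeing at the generic point agree. -/
theorem eq_of_generic {X Y S : Scheme.{u}} [IsIntegral X] (f g : X ⟶ Y) (q : Y ⟶ S) [IsSeparated q]
    (hq : f ≫ q = g ≫ q)
    (h : X.fromSpecStalk (genericPoint X) ≫ f = X.fromSpecStalk (genericPoint X) ≫ g) : f = g := by
  have hdom : IsDominant (X.fromSpecStalk (genericPoint X)) := by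
    rw [isDominant_iff, DenseRange, dense_iff_closure_eq, ← Set.univ_subset_iff]
    have h1 : genericPoint X ∈ Set.range (X.fromSpecStalk (genericPoint X)) := by
      rw [Scheme.range_fromSpecStalk]
      exact specializes_rfl
    have h2 := genericPoint_closure X
    rw [← h2]
    exact closure_mono (Set.singleton_subset_iff.2 h1)
  exact ext_of_isDominant_of_isSeparated q hq (X.fromSpecStalk (genericPoint X)) h

/-- The rank of a finite flat morphism is the degree of the function field extension. -/
theorem finrank_eq {X Y : Scheme.{u}} [IsIntegral X] [IsIntegral Y] (f : X ⟶ Y) [IsFinite f] [Flat f]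
    (e : f (genericPoint X) = genericPoint Y) (y : Y) :
    letI := (ff f e).hom.toAlgebra
    f.finrank y = Module.finrank (Y.presheaf.stalk (genericPoint Y)) (X.presheaf.stalk (genericPoint X)) := by
  have h1 := Groth.Agent.Grpsch.FinrankGen.finrank_eq_stalk f e y
  rw [h1]
  let a1 := (f.stalkMap (genericPoint X)).hom.toAlgebra
  let a2 := (ff f e).hom.toAlgebra
  have hiso : IsIso (Y.presheaf.stalkSpecializes (specializes_of_eq e)) := by
    have := (Y.presheaf.stalkCongr (Inseparable.of_eq e)).isIso_inv
    exact this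
  let i : Y.presheaf.stalk (genericPoint Y) ≃+* Y.presheaf.stalk (f (genericPoint X)) :=
    (asIso (Y.presheaf.stalkSpecializes (specializes_of_eq e))).commRingCatIsoToRingEquiv
  exact (Algebra.finrank_eq_of_equiv_equiv i (RingEquiv.refl _) (by ext; rfl)).symm

/-- A flat morphism of integral schemes is dominant. -/
theorem map_genericPoint_of_flat {X Y : Scheme.{u}} [IsIntegral X] [IsIntegral Y] (f : X ⟶ Y) [Flat f] :
    f (genericPoint X) = genericPoint Y := by
  obtain ⟨x', hx', hfx'⟩ := Flat.generalizingMap f (genericPoint_specializes (f (genericPoint X)))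
  have h1 : x' = genericPoint X := ((genericPoint_specializes x').antisymm hx').eq.symm
  rw [← h1]
  exact hfx'

/-- Endomorphisms of a double cover. -/
theorem endo_unique {X Y : Scheme.{u}} [IsIntegral X] [IsIntegral Y] (h : X ⟶ Y) [IsFinite h] [Flat h]
    (y : Y) (hr : h.finrank y = 2) (σ τ : X ⟶ X) (hσ : σ ≫ h = h) (hτ : τ ≫ h = h) (hσ₁ : σ ≠ 𝟙 X)
    (hτ₁ : τ ≠ 𝟙 X) : σ = τ := by
  have hη := map_genericPoint_of_flat h
  have hfix : ∀ ρ : X ⟶ X, ρ ≫ h = h → ρ (genericPoint X) = genericPoint X := by
    intro ρ hρ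
    apply K33.NormField.eq_genericPoint h
    rw [← Scheme.Hom.comp_apply, hρ, hη]
  let K := Y.presheaf.stalk (genericPoint Y)
  let L := X.presheaf.stalk (genericPoint X)
  let _ : Algebra K L := (ff h hη).hom.toAlgebra
  have hrk : Module.finrank K L = 2 := (finrank_eq h hη y).symm.trans hr
  let al : ∀ ρ : X ⟶ X, ρ ≫ h = h → (L →ₐ[K] L) := fun ρ hρ =>
    { (ff ρ (hfix ρ hρ)).hom with
      commutes' := fun r => by
        have h1 := ff_comp ρ (hfix ρ hρ) h hη h hη hρ
        exact congr(($h1).hom r) }
  have hal : ∀ ρ hρ, ρ ≠ 𝟙 X → al ρ hρ ≠ AlgHom.id K L := by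
    intro ρ hρ hne h1
    apply hne
    refine eq_of_generic ρ (𝟙 X) h (by rw [hρ, Category.id_comp]) ?_
    have h2 : ff ρ (hfix ρ hρ) = 𝟙 _ := by
      ext x
      exact congr($h1 x)
    rw [← spec_ff ρ (hfix ρ hρ), h2, Spec.map_id, Category.id_comp, Category.comp_id]
  have h3 := K423.QuadAlg.algHom_unique hrk (al σ hσ) (al τ hτ) (hal σ hσ hσ₁) (hal τ hτ hτ₁)
  refine eq_of_generic σ τ h (by rw [hσ, hτ]) ?_
  have h2 : ff σ (hfix σ hσ) = ff τ (hfix τ hτ) := by
    ext x
    exact congr($h3 x)
  rw [← spec_ff σ (hfix σ hσ), ← spec_ff τ (hfix τ hτ), h2]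

end K423.FF
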