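import Groth.Prelude.Def_ModelsG
import Groth.Prelude.Def_CurvBase
import Groth.Agent.S3330
import Groth.Agent.S0023
import Groth.Agent.JacVar.K532.Base
import Groth.Agent.Fga.DVRGeom
import Groth.Agent.Sga67.DVRConn
import Groth.Agent.Models.H57.P1End
import Groth.Agent.Curves.K317.SmoothCurve
import Groth.Agent.VarietyA.CurveFin
import Groth.Agent.CurvesA.HHMap
import Groth.Agent.Flat2H.ThickFibre

/-!
# Smooth curves over a discrete valuation ring are minimal models

* `isPullback_fiber`: the base change to a field of fractions of a residue field is the fibre.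
* `isMinimalModel`: a smooth proper curve with geometrically connected fibres of positive genus is a minimal model
  of its generic fibre.
-/

set_option autoImplicit false
universe u
open CategoryTheory CategoryTheory.Limits AlgebraicGeometry TopologicalSpace Opposite IsLocalRing

namespace K423.GenFib

/-- Nonvanishing of the first cohomology of the structure sheaf is invariant under isomorphisms. -/
theorem nontrivial_of_iso {P Y : Scheme.{u}} (e : P ⟶ Y) [IsIso e]
    (h : Nontrivial (Coh.HH Y (Coh.structureModule Y) 1)) : Nontrivial (Coh.HH P (Coh.structureModule P) 1) := by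
  by_contra hcon
  rw [not_nontrivial_iff_subsingleton] at hcon
  have h1 : Subsingleton (Coh.HH P ((Scheme.Modules.pullback e).obj (Coh.structureModule Y)) 1) :=
    (Groth.Agent.CurvesA.HHMap.equiv (Groth.Agent.CurvesA.HHMap.pullbackUnit e) 1).toEquiv.subsingleton
  have h2 := (Groth.Agent.Flat2H.ThickFibre.subsingleton_HH_pullback_iff e (Coh.structureModule Y)
    (Groth.Agent.Ega2.QCohLocal.isQCoh_structureModule Y) 1).1 h1
  exact not_nontrivial _ h

/-- Every point of a scheme with values in a field all of whose elements are fractions of functions factors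
through the residue field by an isomorphism. -/
theorem exists_iso {R : Type u} [CommRing R] {K : Type u} [Field K] (φ : R →+* K)
    (hφ : ∀ x : K, ∃ a b : R, φ b ≠ 0 ∧ x * φ b = φ a) :
    ∃ (s : Spec (CommRingCat.of R)) (j : Spec (CommRingCat.of K) ⟶ Spec ((Spec (CommRingCat.of R)).residueField s)),
      IsIso j ∧ j ≫ (Spec (CommRingCat.of R)).fromSpecResidueField s = Spec.map (CommRingCat.ofHom φ) := by
  let f : Spec (CommRingCat.of K) ⟶ Spec (CommRingCat.of R) := Spec.map (CommRingCat.ofHom φ)
  let s := f (closedPoint K)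
  let d := Scheme.descResidueField (Scheme.stalkClosedPointTo f)
  have hd : Spec.map d ≫ (Spec (CommRingCat.of R)).fromSpecResidueField s = f :=
    Scheme.descResidueField_stalkClosedPointTo_fromSpecResidueField K _ f
  refine ⟨s, Spec.map d, ?_, hd⟩
  have hiso : IsIso d := by
    rw [ConcreteCategory.isIso_iff_bijective]
    refine ⟨RingHom.injective d.hom, fun x => ?_⟩
    obtain ⟨a, b, hb, hab⟩ := hφ x
    obtain ⟨c, hc⟩ := Spec.map_surjective ((Spec (CommRingCat.of R)).fromSpecResidueField s)
    have h1 : c ≫ d = CommRingCat.ofHom φ := by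
      apply Spec.map_injective
      rw [Spec.map_comp, hc, hd]
    have h2 : ∀ r : R, d (c r) = φ r := fun r => congr(($h1).hom r)
    refine ⟨c a / c b, ?_⟩
    have h3 : d (c a / c b) = d (c a) / d (c b) := map_div₀ d.hom _ _
    rw [h3, h2, h2, ← hab, mul_div_assoc, div_self hb, mul_one]
  infer_instance

/-- The base change to such a field is the fibre. -/
theorem exists_fiber_iso {R : Type u} [CommRing R] {K : Type u} [Field K] (φ : R →+* K)
    (hφ : ∀ x : K, ∃ a b : R, φ b ≠ 0 ∧ x * φ b = φ a) {X : Scheme.{u}} (f : X ⟶ Spec (CommRingCat.of R)) :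
    ∃ (s : Spec (CommRingCat.of R)), Nonempty (pullback f (Spec.map (CommRingCat.ofHom φ)) ≅ f.fiber s) := by
  obtain ⟨s, j, hj, h⟩ := exists_iso φ hφ
  refine ⟨s, ⟨?_⟩⟩
  have h1 : IsPullback (f.fiberι s) (f.fiberToSpecResidueField s) f
    ((Spec (CommRingCat.of R)).fromSpecResidueField s) := IsPullback.of_hasPullback _ _
  have h2 : IsPullback (f.fiberι s) (f.fiberToSpecResidueField s ≫ inv j) f
      (Spec.map (CommRingCat.ofHom φ)) :=
    IsPullback.of_iso h1 (Iso.refl _) (Iso.refl _) (asIso j).symm (Iso.refl _) (by simp) (by simp) (by simp)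
      (by simp [← h])
  exact (h2.isoPullback).symm

theorem frac_residue (R : Type u) [CommRing R] [IsLocalRing R] (x : ResidueField R) :
    ∃ a b : R, residue R b ≠ 0 ∧ x * residue R b = residue R a := by
  obtain ⟨a, ha⟩ := residue_surjective x
  exact ⟨a, 1, by simp, by simp [ha]⟩

theorem frac_fractionRing (R : Type u) [CommRing R] [IsDomain R] (x : FractionRing R) :
    ∃ a b : R, algebraMap R (FractionRing R) b ≠ 0 ∧
      x * algebraMap R (FractionRing R) b = algebraMap R (FractionRing R) a := by
  obtain ⟨a, b, hb, rfl⟩ := IsFractionRing.div_surjective (A := R) x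
  have hb' : algebraMap R (FractionRing R) b ≠ 0 := by
    rw [Ne, IsFractionRing.to_map_eq_zero_iff]
    exact nonZeroDivisors.ne_zero hb
  exact ⟨a, b, hb', div_mul_cancel₀ _ hb'⟩

/-- the first cohomology of a fibre of positive genus is nonzero -/
theorem nontrivial_of_genus {k : Type u} [Field k] {X : Scheme.{u}} (p : X ⟶ Spec (CommRingCat.of k))
    (hg : 0 < @Curv2.genus k _ X ⟨p⟩) : Nontrivial (Coh.HH X (Coh.structureModule X) 1) := by
  let _ : X.Over (Spec (CommRingCat.of k)) := ⟨p⟩
  exact Module.nontrivial_of_finrank_pos (R := k) hg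

section Main

variable {R : Type u} [CommRing R] [IsDomain R] [IsDiscreteValuationRing R] {X : Scheme.{u}}
  (f : X ⟶ Spec (CommRingCat.of R)) [IsProper f] [Smooth f] [GeometricallyConnected f]
  (hdim : ∀ s : Spec (CommRingCat.of R), topologicalKrullDim (f.fiber s) = 1)
  (hgen : ∀ s : Spec (CommRingCat.of R), Nontrivial (Coh.HH (f.fiber s) (Coh.structureModule (f.fiber s)) 1))

include hdim in
theorem dim_pullback {K : Type u} [Field K] (φ : R →+* K)
    (hφ : ∀ x : K, ∃ a b : R, φ b ≠ 0 ∧ x * φ b = φ a) :
    topologicalKrullDim (pullback f (Spec.map (CommRingCat.ofHom φ)) : Scheme.{u}) = 1 := by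
  obtain ⟨s, ⟨e⟩⟩ := exists_fiber_iso φ hφ f
  rw [← hdim s]
  exact (Scheme.homeoOfIso e).isHomeomorph.topologicalKrullDim_eq

include hgen in
theorem nontrivial_pullback {K : Type u} [Field K] (φ : R →+* K)
    (hφ : ∀ x : K, ∃ a b : R, φ b ≠ 0 ∧ x * φ b = φ a) :
    Nontrivial (Coh.HH (pullback f (Spec.map (CommRingCat.ofHom φ)) : Scheme.{u})
      (Coh.structureModule (pullback f (Spec.map (CommRingCat.ofHom φ)) : Scheme.{u})) 1) := by
  obtain ⟨s, ⟨e⟩⟩ := exists_fiber_iso φ hφ f
  exact nontrivial_of_iso e.hom (hgen s)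

include hdim in
theorem isSmoothProperCurve {K : Type u} [Field K] (φ : R →+* K)
    (hφ : ∀ x : K, ∃ a b : R, φ b ≠ 0 ∧ x * φ b = φ a) :
    Curve.IsSmoothProperCurve K (pullback f (Spec.map (CommRingCat.ofHom φ)))
      (pullback.snd f (Spec.map (CommRingCat.ofHom φ))) :=
  K532.Base.isSmoothProperCurve _ (dim_pullback f hdim φ hφ)

include hdim hgen in
/-- No vertical curve is exceptional. -/
theorem not_isExcCurve (Γ : ArSurf.VertComp R (Over.mk f)) : ¬ Models.IsExcCurve Γ.ι := by
  rintro ⟨-, k', _, e, -⟩
  let r : R →+* ResidueField R := residue R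
  let S := pullback f (Spec.map (CommRingCat.ofHom r))
  have hS := isSmoothProperCurve f hdim r (frac_residue R)
  have hint : IsIntegral S := hS.2.2.1
  let a : Γ.curve.left ⟶ S := pullback.lift Γ.ι Γ.curve.hom Γ.w
  have ha : a ≫ pullback.fst f (Spec.map (CommRingCat.ofHom r)) = Γ.ι := pullback.lift_fst _ _ _
  have hcl : IsClosedImmersion (a ≫ pullback.fst f (Spec.map (CommRingCat.ofHom r))) := by
    rw [ha]; exact Γ.isClosedImmersion
  have hac : IsClosedImmersion a := IsClosedImmersion.of_comp a (pullback.fst f (Spec.map (CommRingCat.ofHom r)))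
  have hsurj : Surjective a := Groth.Agent.Models.H57.P1End.surjective_of_dim a Γ.dim_eq hS.2.2.2
  have hiso : IsIso a := isIso_of_isClosedImmersion_of_surjective a
  have h1 := nontrivial_of_iso (e.hom ≫ a) (nontrivial_pullback f hgen r (frac_residue R))
  have h2 := Groth.Agent.S0023.result 1 k' 1 one_pos
  exact not_nontrivial _ h1

include hdim hgen in
/-- A smooth curve is a minimal model. -/
theorem isMinimalModel (C : Scheme.{u}) (p : C ⟶ Spec (CommRingCat.of (FractionRing R))) (g : C ⟶ X)
    (hg : IsPullback g p f (Spec.map (CommRingCat.ofHom (algebraMap R (FractionRing R))))) :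
    Models.IsMinimalModel R X f C p :=
  ⟨⟨⟨inferInstance, inferInstance, inferInstance, g, hg⟩, inferInstance,
    fun x => Groth.Agent.Fga.DVRGeom.isRegularLocalRing_stalk f x⟩, not_isExcCurve f hdim hgen⟩

end Main

end K423.GenFib
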