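import Groth.Agent.Curves.K423.FF
import Groth.Agent.Desc.K390.PnSec
import Groth.Agent.S11355
import Groth.Agent.Variety.K432.CurveDeg
import Groth.Agent.Curves.K335.FreeNhd
import Groth.Agent.Divis.StalkMod
import Groth.Agent.Dix.Cast2
import Groth.Agent.Curves.K317.SmoothCurve
import Groth.Agent.VarietyA.CurveFin
import Groth.Agent.Old.H24.LinearSeries
import Groth.Agent.S14315
import Groth.Agent.S10829
import Groth.Agent.Ega3B.ProjProper
import Groth.Agent.CohqA.ProjDim

/-!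
# Double covers of the projective line

* `linIndep_tsec`: the pulled back coordinates are linearly independent, for an affine morphism from a proper curve.
* `deg_pull_O1`: the degree of the pullback of `O(1)` under a finite flat morphism of rank `n` to the line.
* `comp_eq`: an automorphism of a double cover of the line by a curve of genus at least two is compatible with
  every double cover.
-/

set_option autoImplicit false
universe u
open CategoryTheory CategoryTheory.Limits AlgebraicGeometry TopologicalSpace Opposite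

namespace K423.Hyper

open Groth.Agent.CurvesB.HZero
open Groth.Agent.Fdesc.LocGen Groth.Agent.Ega2.H295.PnUniq Groth.Agent.Ega2.H295.PnCoord K390.PnSec

attribute [local instance] MvPolynomial.gradedAlgebra

variable {k : Type u} [Field k] {X : Scheme.{u}}

/-- A proper curve is not affine. -/
theorem not_isAffine (p : X ⟶ Spec (CommRingCat.of k)) [IsProper p] [IsIntegral X]
    (hdim : topologicalKrullDim X = 1) : ¬ IsAffine X := by
  intro h
  have : IsFinite p := by
    rw [IsFinite.iff_isProper_and_isAffineHom]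
    exact ⟨inferInstance, inferInstance⟩
  obtain ⟨a, -, b, -, hab⟩ := Groth.Agent.S14315.nontrivial_range p hdim
  exact hab (Subsingleton.elim _ _)

/-- If one pulled back coordinate is a multiple of the other then the source is affine. -/
theorem isAffine_of_rel (r : X ⟶ Proj (MvPolynomial.homogeneousSubmodule (Fin (1 + 1)) k)) [IsAffineHom r]
    (i j : Fin (1 + 1)) (hij : j ≠ i) (a : Γ(X, ⊤)) (h : tsec r i = a • tsec r j) : IsAffine X := by
  obtain ⟨e, -⟩ := ratio_of_rel r j (V := ⊤) (fun l => if l = i then a else 1) (by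
    intro l
    by_cases hl : l = i
    · subst hl
      simp only [if_true]
      rw [h, res_smul]
      congr 1
      exact congr(($(X.presheaf.map_id (op ⊤))).hom a)
    · have hl' : l = j := by
        omega
      subst hl'
      simp only [if_neg hl]
      rw [one_smul])
  have h5 : IsAffineOpen (r ⁻¹ᵁ Dp (Fin (1 + 1)) k j) :=
    (Proj.isAffineOpen_basicOpen _ _ (MvPolynomial.isHomogeneous_X k j) one_pos).preimage r
  rw [top_le_iff.1 e] at h5
  have h6 : IsAffine ((⊤ : X.Opens) : Scheme.{u}) := h5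
  exact IsAffine.of_isIso X.topIso.inv

/-- The pulled back coordinates are linearly independent. -/
theorem linIndep_tsec [X.Over (Spec (CommRingCat.of k))] [IsIntegral X]
    [IsProper (X ↘ Spec (CommRingCat.of k))] (hdim : topologicalKrullDim X = 1)
    (h : X ⟶ CohB1.ProjSpace 1 k) [IsAffineHom h] :
    LinSer.LinIndep k X ((Scheme.Modules.pullback h).obj (O1 1 k))
      (fun i : Fin 2 => (tsec h i : Γ((Scheme.Modules.pullback h).obj (O1 1 k), ⊤))) := by
  intro c hc
  by_contra hne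
  obtain ⟨i, hi⟩ : ∃ i, c i ≠ 0 := by
    by_contra hcon
    push Not at hcon
    exact hne (funext hcon)
  obtain ⟨j, hij⟩ : ∃ j : Fin 2, j ≠ i := exists_ne i
  have hun : (Finset.univ : Finset (Fin 2)) = {i, j} := by
    revert hij; fin_cases i <;> fin_cases j <;> decide
  let t : Fin 2 → Γ((Scheme.Modules.pullback h).obj (O1 1 k), ⊤) := fun i => tsec h i
  let g : k →+* Γ(X, ⊤) := gl k X
  have h1 : g (c i) • t i + g (c j) • t j = 0 := by
    have := hc
    rw [hun, Finset.sum_pair hij.symm] at this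
    exact this
  have h2 : t i = g (-((c i)⁻¹ * c j)) • t j := by
    have h3 := congrArg (fun z => g ((c i)⁻¹) • z) h1
    simp only [smul_add, smul_smul, smul_zero, ← map_mul, inv_mul_cancel₀ hi, map_one, one_smul] at h3
    rw [map_neg, neg_smul]
    exact eq_neg_of_add_eq_zero_left h3
  have h3 : IsAffineHom (X := X) (Y := Proj (MvPolynomial.homogeneousSubmodule (Fin (1 + 1)) k)) h :=
    ‹IsAffineHom h›
  exact not_isAffine (X ↘ Spec (CommRingCat.of k)) hdim (isAffine_of_rel h i j hij _ h2)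

/-- The rank of the direct image of the structure sheaf under a finite flat morphism. -/
theorem finrank_stalk_push {X Y : Scheme.{u}} (f : X ⟶ Y) [IsFinite f] [Flat f]
    [LocallyOfFinitePresentation f] (y : Y) :
    Module.finrank (Y.presheaf.stalk y)
      (((Scheme.Modules.pushforward f).obj (Coh.structureModule X)).presheaf.stalk y) = f.finrank y := by
  obtain ⟨V, -, hyV, hV, hfree, hfin⟩ := K335.FreeNhd.exists_free_nhd f ⊤ y trivial
  have h1 := K335.FreeNhd.finrank_eq f hV ⟨y, hyV⟩ hfree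
  let _ : Algebra Γ(Y, V) Γ(X, f ⁻¹ᵁ V) := (f.app V).hom.toAlgebra
  have := hfree
  have := hfin
  have : Nontrivial Γ(Y, V) := by
    have : Nonempty V := ⟨⟨y, hyV⟩⟩
    infer_instance
  rw [← h1]
  have hq : Coh.IsQCoh ((Scheme.Modules.pushforward f).obj (Coh.structureModule X)) :=
    Groth.Agent.Ega3B.DevQC.isQCoh_push f (Groth.Agent.CurvesC.UnitCoh.isQCoh_unit X)
  refine Groth.Agent.Divis.StalkMod.stalk_elim _ hq hV y hyV ?_
  intro _ _ _ _ l _ _ _
  let b : Module.Basis (Fin (Module.finrank Γ(Y, V) Γ(X, f ⁻¹ᵁ V))) Γ(Y, V)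
    Γ((Scheme.Modules.pushforward f).obj (Coh.structureModule X), V) := Module.finBasis Γ(Y, V) Γ(X, f ⁻¹ᵁ V)
  have b' := b.ofIsLocalizedModule (Y.presheaf.stalk y) (hV.primeIdealOf ⟨y, hyV⟩).asIdeal.primeCompl l
  rw [Module.finrank_eq_card_basis b', Fintype.card_fin]

theorem dg_O1 : @Curv2.deg k _ (CohB1.ProjSpace 1 k) ⟨CohB1.ProjSpace.toSpec 1 k⟩ (O1 1 k) 1 = 1 := by
  let _ : (CohB1.ProjSpace 1 k).Over (Spec (CommRingCat.of k)) := ⟨CohB1.ProjSpace.toSpec 1 k⟩
  have hpP : IsProper ((CohB1.ProjSpace 1 k) ↘ Spec (CommRingCat.of k)) :=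
    Groth.Agent.Ega3B.ProjProper.isProper_toSpec 1 k
  have hNP : IsNoetherian (CohB1.ProjSpace 1 k) := Groth.Agent.CurvesB.CurveRR.isNoetherian_of_proper k _
  have hdP : topologicalKrullDim (CohB1.ProjSpace 1 k) ≤ 1 := by
    exact_mod_cast Groth.Agent.CohqA.ProjDim.topologicalKrullDim_le (k := k) (n := 1)
  have h1 := Groth.Agent.Dix.Cast2.wp2_deg k 1
  unfold ArSurf.curveDeg at h1
  rw [Groth.Agent.Dix.Cast2.eulerCharLE_eq, Groth.Agent.Dix.Cast2.eulerCharLE_eq] at h1
  have h2 : Curv2.deg k (CohB1.ProjSpace 1 k) (O1 1 k) 1 = Curv2.euler k (CohB1.ProjSpace 1 k) (O1 1 k) -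
      ((1 : ℕ) : ℤ) * Curv2.euler k (CohB1.ProjSpace 1 k) (Coh.structureModule (CohB1.ProjSpace 1 k)) := rfl
  change Curv2.deg k (CohB1.ProjSpace 1 k) (O1 1 k) 1 = 1
  rw [h2, Groth.Agent.CurvesB.CurveRR.euler_eq k _ hdP, Groth.Agent.CurvesB.CurveRR.euler_eq k _ hdP,
    Nat.cast_one, one_mul]
  exact h1

/-- The degree of the pullback of `O(1)`. -/
theorem deg_pull_O1 (p : X ⟶ Spec (CommRingCat.of k)) (h : X ⟶ CohB1.ProjSpace 1 k)
    (hh : h ≫ CohB1.ProjSpace.toSpec 1 k = p) [IsFinite h] [Flat h] (n : ℕ)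
    (hr : ∀ y : CohB1.ProjSpace 1 k, h.finrank y = n) :
    @Curv2.deg k _ X ⟨p⟩ ((Scheme.Modules.pullback h).obj (O1 1 k)) 1 = n := by
  have hpP : IsProper (CohB1.ProjSpace.toSpec 1 k) := Groth.Agent.Ega3B.ProjProper.isProper_toSpec 1 k
  have hLN : IsLocallyNoetherian (CohB1.ProjSpace 1 k) :=
    LocallyOfFiniteType.isLocallyNoetherian (CohB1.ProjSpace.toSpec 1 k)
  have hfp : LocallyOfFinitePresentation h := inferInstance
  have hdP : topologicalKrullDim (CohB1.ProjSpace 1 k) = 1 := by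
    exact_mod_cast Groth.Agent.S10829.result k 1
  have h1 := K432.CurveDeg.dg_pullback_finite (CohB1.ProjSpace.toSpec 1 k) hdP h (O1 1 k)
    (Groth.Agent.Ega2.VeryAmpleAmple.isInvertible_twistProjSpace 1 k 1)
  rw [finrank_stalk_push, hr] at h1
  subst hh
  refine h1.trans ?_
  have h2 := dg_O1 (k := k)
  change (n : ℤ) * @Curv2.deg k _ (CohB1.ProjSpace 1 k) ⟨CohB1.ProjSpace.toSpec 1 k⟩ (O1 1 k) 1 = n
  rw [h2, mul_one]

/-- The linear series given by a double cover of the line. -/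
theorem isLinSer [X.Over (Spec (CommRingCat.of k))] [IsIntegral X]
    [IsProper (X ↘ Spec (CommRingCat.of k))] (hdim : topologicalKrullDim X = 1)
    (h : X ⟶ CohB1.ProjSpace 1 k) (hh : h ≫ CohB1.ProjSpace.toSpec 1 k = X ↘ Spec (CommRingCat.of k))
    [IsFinite h] [Flat h] (n : ℕ) (hr : ∀ y : CohB1.ProjSpace 1 k, h.finrank y = n) :
    LinSer.IsLinSer k X ((Scheme.Modules.pullback h).obj (O1 1 k)) n 1
      (fun i : Fin 2 => (tsec h i : Γ((Scheme.Modules.pullback h).obj (O1 1 k), ⊤))) :=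
  ⟨Groth.Agent.Fdesc.LocGen.isInvertible_pullback h (Groth.Agent.Ega2.VeryAmpleAmple.isInvertible_twistProjSpace 1 k 1),
    deg_pull_O1 (X ↘ Spec (CommRingCat.of k)) h hh n hr, linIndep_tsec hdim h⟩

/-- Automorphisms of double covers of the line are compatible with every double cover, for genus at least two. -/
theorem comp_eq [IsAlgClosed k] (p : X ⟶ Spec (CommRingCat.of k)) [IsProper p] [Smooth p] [ConnectedSpace X]
    (hX : topologicalKrullDim X = 1) (hg : 2 ≤ @Curv2.genus k _ X ⟨p⟩)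
    (h₁ h₂ : X ⟶ CohB1.ProjSpace 1 k) (hh₁ : h₁ ≫ CohB1.ProjSpace.toSpec 1 k = p)
    (hh₂ : h₂ ≫ CohB1.ProjSpace.toSpec 1 k = p)
    [IsFinite h₁] [Flat h₁] (hr₁ : ∀ y : CohB1.ProjSpace 1 k, h₁.finrank y = 2)
    [IsFinite h₂] [Flat h₂] (hr₂ : ∀ y : CohB1.ProjSpace 1 k, h₂.finrank y = 2)
    (σ : X ⟶ X) (hσ : σ ≫ h₁ = h₁) : σ ≫ h₂ = h₂ := by
  let _ : X.Over (Spec (CommRingCat.of k)) := ⟨p⟩
  have hpp : IsProper (X ↘ Spec (CommRingCat.of k)) := inferInstanceAs (IsProper p)
  have hps : Smooth (X ↘ Spec (CommRingCat.of k)) := inferInstanceAs (Smooth p)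
  have hint : IsIntegral X := K317.SmoothCurve.isIntegral_of_smooth k (X ↘ Spec (CommRingCat.of k))
  have hreg : ∀ x : X, IsRegularLocalRing (X.presheaf.stalk x) :=
    Groth.Agent.Sga5.SmoothField.isRegularLocalRing_stalk p
  have hσp : σ ≫ p = p := by rw [← hh₁, ← Category.assoc, hσ]
  have L₁ := isLinSer hX h₁ hh₁ 2 hr₁
  have L₂ := isLinSer hX h₂ hh₂ 2 hr₂
  obtain ⟨e⟩ := Groth.Agent.S11355.result k X hX hreg hg _ _ L₁ _ _ L₂
  set M := (Scheme.Modules.pullback h₂).obj (O1 1 k) with hM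
  have G₁ := (GivenBy.refl h₁).of_iso e
  have G₂ := GivenBy.refl h₂
  set s : Fin 2 → Γ(M, ⊤) := fun i => e.hom.app ⊤ (tsec h₁ i) with hs
  have hsi : LinSer.LinIndep k X M s := by
    intro c hc
    refine L₁.2.2 c ?_
    have h1 : e.inv.app ⊤ (∑ i, (gl k X (c i)) • s i) = 0 := by
      have : (∑ i, (gl k X (c i)) • s i) = 0 := hc
      rw [this, map_zero]
    rw [map_sum] at h1
    refine (Finset.sum_congr rfl fun i _ => ?_).trans h1
    rw [Scheme.Modules.Hom.app_smul]
    have h2 : e.inv.app ⊤ (s i) = tsec h₁ i :=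
      congr(($(e.hom_inv_id).app ⊤) (tsec h₁ i : Γ((Scheme.Modules.pullback h₁).obj (O1 1 k), ⊤)))
    rw [h2]
    rfl
  have hMi : PicF.IsInvertible M := L₂.1
  have hdg : Curv2.deg k X M 1 = 2 := L₂.2.1
  have hli := K320.G12.linearIndependent s hsi
  have hfin : Module.Finite k (Coh.HH X M 0) := Groth.Agent.VarietyA.CurveFin.finite_HH k X hMi 0
  have h2le := K320.G12.two_le_finrank s hsi
  have hfr : Module.finrank k (Coh.HH X M 0) = 2 := by
    have hnt : Nontrivial (Coh.HH X M 0) := by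
      apply Module.nontrivial_of_finrank_pos (R := k)
      omega
    have h0 : Module.finrank k (Coh.HH X (Coh.structureModule X) 0) = 1 :=
      Groth.Agent.VarietyA.CurveFin.finrank_h0_structure k X
    obtain ⟨h3, h4⟩ := Groth.Agent.Old.H24.LinearSeries.main k hX.le h0 M hMi hnt
    rw [hdg] at h3 h4
    by_contra hcon
    have h5 := h4 (by omega) (by norm_num)
    change 2 ≤ Curv2.genus k X at hg
    omega
  have hspan : ∀ t : Γ(M, ⊤), ∃ c : Fin 2 → k, t = ∑ i, (gl k X (c i)) • s i := by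
    intro t
    have h1 := hli.span_eq_top_of_card_eq_finrank' (by simpa using hfr.symm)
    obtain ⟨c, hc⟩ := (Submodule.mem_span_range_iff_exists_fun k).1
      (h1 ▸ (Submodule.mem_top : (equivAdd M).symm t ∈ (⊤ : Submodule k (Coh.HH X M 0))))
    refine ⟨c, ?_⟩
    have h2 := congrArg (equivAdd M) hc
    rw [AddEquiv.apply_symm_apply, map_sum] at h2
    rw [← h2]
    refine Finset.sum_congr rfl fun i _ => ?_
    rw [equivAdd_smul_over, AddEquiv.apply_symm_apply]
  -- the automorphism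
  have A₁ := G₁.comp σ
  rw [hσ] at A₁
  obtain ⟨e', he'⟩ := A₁.exists_iso G₁
  have A₂ := (G₂.comp σ).of_iso e'
  have hgl : ∀ a : k, σ.app ⊤ (gl k X a) = gl k X a := by
    intro a
    have h1 : p.appTop ≫ σ.appTop = p.appTop := by
      rw [← Scheme.Hom.comp_appTop, hσp]
    exact congr(($h1).hom ((Scheme.ΓSpecIso (CommRingCat.of k)).inv.hom a))
  have hfix : ∀ t : Γ(M, ⊤), e'.hom.app ⊤ (pullTop σ t) = t := by
    intro t
    obtain ⟨c, rfl⟩ := hspan t
    have h1 : (pullTop σ (∑ i, (gl k X (c i)) • s i) : Γ((Scheme.Modules.pullback σ).obj M, ⊤)) =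
        ∑ i, (gl k X (c i)) • pullTop σ (s i) := by
      have h2 : ∀ (ι : Type) (u : Finset ι) (m : ι → Γ(M, ⊤)),
          (pullTop σ (∑ i ∈ u, m i) : Γ((Scheme.Modules.pullback σ).obj M, ⊤)) = ∑ i ∈ u, pullTop σ (m i) :=
        fun ι u m => map_sum (((Scheme.Modules.pullbackPushforwardAdjunction σ).unit.app M).app ⊤).hom m u
      rw [h2]
      refine Finset.sum_congr rfl fun i _ => ?_
      have h3 : (pullTop σ ((gl k X (c i)) • s i) : Γ((Scheme.Modules.pullback σ).obj M, ⊤)) =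
        (show Γ(X, ⊤) from σ.app ⊤ (gl k X (c i))) • pullTop σ (s i) := pullSec_smul σ (gl k X (c i)) (s i)
      rw [h3]
      congr 1
      exact hgl (c i)
    rw [h1, map_sum]
    refine Finset.sum_congr rfl fun i _ => ?_
    rw [Scheme.Modules.Hom.app_smul]
    congr 1
    exact he' i
  refine GivenBy.unique (s := fun i => tsec h₂ i) ?_ G₂ (by rw [Category.assoc, hh₂, hσp])
  have : (fun i => e'.hom.app ⊤ (pullTop σ (tsec h₂ i))) = fun i => (tsec h₂ i : Γ(M, ⊤)) :=
    funext fun i => hfix _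
  rw [this] at A₂
  exact A₂

/-- The hyperelliptic involution is unique. -/
theorem involution_unique [IsAlgClosed k] (p : X ⟶ Spec (CommRingCat.of k)) [IsProper p] [Smooth p]
    [ConnectedSpace X] (hX : topologicalKrullDim X = 1) (hg : 2 ≤ @Curv2.genus k _ X ⟨p⟩)
    (h₁ h₂ : X ⟶ CohB1.ProjSpace 1 k) (hh₁ : h₁ ≫ CohB1.ProjSpace.toSpec 1 k = p)
    (hh₂ : h₂ ≫ CohB1.ProjSpace.toSpec 1 k = p)
    [IsFinite h₁] [Flat h₁] (hr₁ : ∀ y : CohB1.ProjSpace 1 k, h₁.finrank y = 2)
    [IsFinite h₂] [Flat h₂] (hr₂ : ∀ y : CohB1.ProjSpace 1 k, h₂.finrank y = 2)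
    (σ τ : X ⟶ X) (hσ : σ ≫ h₁ = h₁) (hσ₁ : σ ≠ 𝟙 X) (hτ : τ ≫ h₂ = h₂) (hτ₁ : τ ≠ 𝟙 X) : σ = τ := by
  have hint : IsIntegral X := K317.SmoothCurve.isIntegral_of_smooth k p
  have hint' : IsIntegral (CohB1.ProjSpace 1 k) := by
    infer_instance
  have h1 := comp_eq p hX hg h₁ h₂ hh₁ hh₂ hr₁ hr₂ σ hσ
  obtain ⟨y⟩ : Nonempty (CohB1.ProjSpace 1 k) := inferInstance
  exact K423.FF.endo_unique h₂ y (hr₂ y) σ τ h1 hτ hσ₁ hτ₁

end K423.Hyper
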