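import Groth.Agent.EllLift.K820.Charts
import Groth.Agent.Sga5.ProjChart
import Groth.Prelude.Def_LefPen

/-!
# The Weierstrass cubic form and its two affine charts
-/

set_option autoImplicit false
universe u

open MvPolynomial

namespace K423.WeierForm

open Groth.Agent.VarietyA.Ell (WEq WEqInf)
open K820.EW Groth.Agent.Sga5

variable {k : Type u} [Field k] (W : WeierstrassCurve k)

/-- The homogeneous Weierstrass polynomial. -/
noncomputable def poly : MvPolynomial (Fin (2 + 1)) k :=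
  X 1 ^ 2 * X 2 + C W.a₁ * X 0 * X 1 * X 2 + C W.a₃ * X 1 * X 2 ^ 2 - X 0 ^ 3
    - C W.a₂ * X 0 ^ 2 * X 2 - C W.a₄ * X 0 * X 2 ^ 2 - C W.a₆ * X 2 ^ 3

theorem poly_mem : poly W ∈ CohB1.polyGrading 2 k 3 := by
  have hX : ∀ i : Fin (2 + 1), (X i : MvPolynomial (Fin (2 + 1)) k).IsHomogeneous 1 := fun i => isHomogeneous_X k i
  have hC : ∀ a : k, (C a : MvPolynomial (Fin (2 + 1)) k).IsHomogeneous 0 := fun a => isHomogeneous_C _ a
  have h : (poly W).IsHomogeneous 3 := by
    unfold poly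
    refine IsHomogeneous.sub (IsHomogeneous.sub (IsHomogeneous.sub (IsHomogeneous.sub (IsHomogeneous.add
      (IsHomogeneous.add ?_ ?_) ?_) ?_) ?_) ?_) ?_
    · exact ((hX 1).pow 2).mul (hX 2)
    · exact (((hC _).mul (hX 0)).mul (hX 1)).mul (hX 2)
    · exact ((hC _).mul (hX 1)).mul ((hX 2).pow 2)
    · exact (hX 0).pow 3
    · exact ((hC _).mul ((hX 0).pow 2)).mul (hX 2)
    · exact ((hC _).mul (hX 0)).mul ((hX 2).pow 2)
    · exact (hC _).mul ((hX 2).pow 3)
  exact h

/-- The Weierstrass form. -/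
noncomputable def form : LefPen.Form 2 k 3 := ⟨poly W, poly_mem W⟩

theorem dX2 : ProjChart.dehom 2 k 2 (X 0) = X 0 ∧ ProjChart.dehom 2 k 2 (X 1) = X 1 ∧
    ProjChart.dehom 2 k 2 (X 2) = 1 := by
  refine ⟨?_, ?_, ProjChart.dehom_X_self _ _ _⟩
  · exact ProjChart.dehom_X 2 k 2 0
  · exact ProjChart.dehom_X 2 k 2 1

theorem dX1 : ProjChart.dehom 2 k 1 (X 0) = X 0 ∧ ProjChart.dehom 2 k 1 (X 1) = 1 ∧
    ProjChart.dehom 2 k 1 (X 2) = X 1 := by
  refine ⟨?_, ProjChart.dehom_X_self _ _ _, ?_⟩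
  · exact ProjChart.dehom_X 2 k 1 0
  · exact ProjChart.dehom_X 2 k 1 1

/-- The affine equation. -/
noncomputable def fU : MvPolynomial (Fin 2) k :=
  X 1 ^ 2 + C W.a₁ * X 0 * X 1 + C W.a₃ * X 1 - X 0 ^ 3 - C W.a₂ * X 0 ^ 2 - C W.a₄ * X 0 - C W.a₆

/-- The equation at infinity. -/
noncomputable def fC : MvPolynomial (Fin 2) k :=
  X 1 + C W.a₁ * X 0 * X 1 + C W.a₃ * X 1 ^ 2 - X 0 ^ 3 - C W.a₂ * X 0 ^ 2 * X 1 - C W.a₄ * X 0 * X 1 ^ 2
    - C W.a₆ * X 1 ^ 3

theorem dehom_two : ProjChart.dehom 2 k 2 (form W).1 = fU W := by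
  obtain ⟨h0, h1, h2⟩ := dX2 (k := k)
  simp only [form, poly, fU, map_add, map_sub, map_mul, map_pow, h0, h1, h2, ProjChart.dehom_C]
  ring

theorem dehom_one : ProjChart.dehom 2 k 1 (form W).1 = fC W := by
  obtain ⟨h0, h1, h2⟩ := dX1 (k := k)
  simp only [form, poly, fC, map_add, map_sub, map_mul, map_pow, h0, h1, h2, ProjChart.dehom_C]
  ring

/-- The coordinate homomorphism of the affine chart. -/
noncomputable def phiU : MvPolynomial (Fin 2) k →+* RU W := eval₂Hom (iU W) ![xU W, yU W]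

/-- The coordinate homomorphism of the chart at infinity. -/
noncomputable def phiC : MvPolynomial (Fin 2) k →+* RC W := eval₂Hom (iC W) ![zC W, wC W]

@[simp] theorem phiU_C (a : k) : phiU W (C a) = iU W a := by simp [phiU]
@[simp] theorem phiU_X0 : phiU W (X 0) = xU W := by simp [phiU]
@[simp] theorem phiU_X1 : phiU W (X 1) = yU W := by simp [phiU]
@[simp] theorem phiC_C (a : k) : phiC W (C a) = iC W a := by simp [phiC]
@[simp] theorem phiC_X0 : phiC W (X 0) = zC W := by simp [phiC]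
@[simp] theorem phiC_X1 : phiC W (X 1) = wC W := by simp [phiC]

theorem phiU_f : phiU W (fU W) = 0 := by
  have h := wEq_U W
  unfold WEq at h
  simp only [fU, map_add, map_sub, map_mul, map_pow, phiU_C, phiU_X0, phiU_X1]
  linear_combination h

theorem phiC_f : phiC W (fC W) = 0 := by
  have h := wEqInf_C W
  unfold WEqInf at h
  simp only [fC, map_add, map_sub, map_mul, map_pow, phiC_C, phiC_X0, phiC_X1]
  linear_combination h

theorem wEq_of_map {B : Type u} [CommRing B] (q : MvPolynomial (Fin 2) k →+* B) (h : q (fU W) = 0) :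
    WEq W (q.comp C) (q (X 0)) (q (X 1)) := by
  simp only [fU, map_add, map_sub, map_mul, map_pow] at h
  unfold WEq
  simp only [RingHom.comp_apply]
  linear_combination h

theorem wEqInf_of_map {B : Type u} [CommRing B] (q : MvPolynomial (Fin 2) k →+* B) (h : q (fC W) = 0) :
    WEqInf W (q.comp C) (q (X 0)) (q (X 1)) := by
  simp only [fC, map_add, map_sub, map_mul, map_pow] at h
  unfold WEqInf
  simp only [RingHom.comp_apply]
  linear_combination h

/-- The inverse homomorphism. -/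
noncomputable def psiU : RU W →+* (MvPolynomial (Fin 2) k ⧸ Ideal.span {fU W}) :=
  liftU ((Ideal.Quotient.mk (Ideal.span {fU W})).comp C) (Ideal.Quotient.mk _ (X 0)) (Ideal.Quotient.mk _ (X 1))
    (wEq_of_map W _ (Ideal.Quotient.eq_zero_iff_mem.2 (Ideal.mem_span_singleton_self _)))

/-- The inverse homomorphism. -/
noncomputable def psiC : RC W →+* (MvPolynomial (Fin 2) k ⧸ Ideal.span {fC W}) :=
  liftC ((Ideal.Quotient.mk (Ideal.span {fC W})).comp C) (Ideal.Quotient.mk _ (X 0)) (Ideal.Quotient.mk _ (X 1))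
    (wEqInf_of_map W _ (Ideal.Quotient.eq_zero_iff_mem.2 (Ideal.mem_span_singleton_self _)))

theorem psiU_comp : (psiU W).comp (phiU W) = Ideal.Quotient.mk _ := by
  apply MvPolynomial.ringHom_ext
  · intro c
    rw [RingHom.comp_apply, phiU_C, psiU, liftU_iU]
    rfl
  · intro i
    rw [RingHom.comp_apply]
    fin_cases i
    · change psiU W (phiU W (X 0)) = _
      rw [phiU_X0, psiU, liftU_x]; rfl
    · change psiU W (phiU W (X 1)) = _
      rw [phiU_X1, psiU, liftU_y]; rfl

theorem psiC_comp : (psiC W).comp (phiC W) = Ideal.Quotient.mk _ := by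
  apply MvPolynomial.ringHom_ext
  · intro c
    rw [RingHom.comp_apply, phiC_C, psiC, liftC_iC]
    rfl
  · intro i
    rw [RingHom.comp_apply]
    fin_cases i
    · change psiC W (phiC W (X 0)) = _
      rw [phiC_X0, psiC, liftC_z]; rfl
    · change psiC W (phiC W (X 1)) = _
      rw [phiC_X1, psiC, liftC_w]; rfl

theorem ker_phiU : RingHom.ker (phiU W) = Ideal.span {ProjChart.dehom 2 k 2 (form W).1} := by
  rw [dehom_two]
  apply le_antisymm
  · intro p hp
    have h := congrArg (fun t : MvPolynomial (Fin 2) k →+* _ => t p) (psiU_comp W)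
    rw [← Ideal.Quotient.eq_zero_iff_mem, ← h]
    change psiU W (phiU W p) = 0
    rw [(RingHom.mem_ker).1 hp, map_zero]
  · rw [Ideal.span_singleton_le_iff_mem, RingHom.mem_ker, phiU_f]

theorem ker_phiC : RingHom.ker (phiC W) = Ideal.span {ProjChart.dehom 2 k 1 (form W).1} := by
  rw [dehom_one]
  apply le_antisymm
  · intro p hp
    have h := congrArg (fun t : MvPolynomial (Fin 2) k →+* _ => t p) (psiC_comp W)
    rw [← Ideal.Quotient.eq_zero_iff_mem, ← h]
    change psiC W (phiC W p) = 0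
    rw [(RingHom.mem_ker).1 hp, map_zero]
  · rw [Ideal.span_singleton_le_iff_mem, RingHom.mem_ker, phiC_f]

theorem phiU_surjective : Function.Surjective (phiU W) := by
  let θ : (MvPolynomial (Fin 2) k ⧸ Ideal.span {fU W}) →+* RU W :=
    Ideal.Quotient.lift _ (phiU W) (fun a ha => by
      obtain ⟨b, rfl⟩ := Ideal.mem_span_singleton'.1 ha
      rw [map_mul, phiU_f, mul_zero])
  have h : θ.comp (psiU W) = RingHom.id _ := by
    apply hom_ext_U
    · ext a
      change θ (psiU W (iU W a)) = iU W a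
      rw [psiU, liftU_iU]
      exact (Ideal.Quotient.lift_mk _ _ _).trans (phiU_C W a)
    · change θ (psiU W (xU W)) = xU W
      rw [psiU, liftU_x]
      exact (Ideal.Quotient.lift_mk _ _ _).trans (phiU_X0 W)
    · change θ (psiU W (yU W)) = yU W
      rw [psiU, liftU_y]
      exact (Ideal.Quotient.lift_mk _ _ _).trans (phiU_X1 W)
  intro r
  obtain ⟨p, hp⟩ := Ideal.Quotient.mk_surjective (psiU W r)
  refine ⟨p, ?_⟩
  have h1 : θ (Ideal.Quotient.mk _ p) = phiU W p := Ideal.Quotient.lift_mk _ _ _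
  rw [← h1, hp]
  exact congrArg (fun t : RU W →+* _ => t r) h

theorem phiC_surjective : Function.Surjective (phiC W) := by
  let θ : (MvPolynomial (Fin 2) k ⧸ Ideal.span {fC W}) →+* RC W :=
    Ideal.Quotient.lift _ (phiC W) (fun a ha => by
      obtain ⟨b, rfl⟩ := Ideal.mem_span_singleton'.1 ha
      rw [map_mul, phiC_f, mul_zero])
  have h : θ.comp (psiC W) = RingHom.id _ := by
    apply hom_ext_C
    · ext a
      change θ (psiC W (iC W a)) = iC W a
      rw [psiC, liftC_iC]
      exact (Ideal.Quotient.lift_mk _ _ _).trans (phiC_C W a)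
    · change θ (psiC W (zC W)) = zC W
      rw [psiC, liftC_z]
      exact (Ideal.Quotient.lift_mk _ _ _).trans (phiC_X0 W)
    · change θ (psiC W (wC W)) = wC W
      rw [psiC, liftC_w]
      exact (Ideal.Quotient.lift_mk _ _ _).trans (phiC_X1 W)
  intro r
  obtain ⟨p, hp⟩ := Ideal.Quotient.mk_surjective (psiC W r)
  refine ⟨p, ?_⟩
  have h1 : θ (Ideal.Quotient.mk _ p) = phiC W p := Ideal.Quotient.lift_mk _ _ _
  rw [← h1, hp]
  exact congrArg (fun t : RC W →+* _ => t r) h

end K423.WeierForm
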