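import Groth.Agent.Curves.K423.WeierForm
import Groth.Agent.EllLift.K820.Model
import Groth.Agent.Lefpen.H996.HypTwo
import Groth.Agent.Lefpen.H996.HypRange
import Groth.Agent.Curves.K329.Pt

/-!
# The Weierstrass model over a field is the plane cubic
-/

set_option autoImplicit false
universe u

open CategoryTheory CategoryTheory.Limits AlgebraicGeometry

namespace K423.WeierHyp

open Groth.Agent.VarietyA.Ell (WEq WEqInf)
open K820.EW Groth.Agent.Sga5 K423.WeierForm LefPen Groth.Agent.Lefpen.H996.HypTwo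
open Groth.Agent.Lefpen.H996.HypRange
open K329.Pt

section Pt

variable {k : Type u} [Field k] {N : ℕ} {B : Type u} [CommRing B] [Algebra k B]

omit [Algebra k B] in
theorem isUnit_self (φ : MvPolynomial (Fin N) k →+* B) (j : Fin (N + 1)) :
    IsUnit (φ (ProjChart.dehom N k j (MvPolynomial.X j))) := by
  rw [ProjChart.dehom_X_self, map_one]
  exact isUnit_one

theorem specMap_chart (φ : MvPolynomial (Fin N) k →+* B) (hφ : φ.comp MvPolynomial.C = algebraMap k B)
    (j : Fin (N + 1)) :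
    Spec.map (CommRingCat.ofHom φ) ≫ ProjSmooth.chart N k j =
      pt k (fun l => φ (ProjChart.dehom N k j (MvPolynomial.X l))) j (isUnit_self φ j) := by
  let χ : ProjChart.Chart N k j →+* B := φ.comp (ProjChart.chartEquiv N k j).symm.toRingHom
  have hC : ∀ c : k, (ProjChart.chartEquiv N k j).symm (ProjChart.chartC N k j c) = MvPolynomial.C c := by
    intro c
    rw [RingEquiv.symm_apply_eq]
    have : ProjChart.chartEquiv N k j (MvPolynomial.C c) = ProjChart.ofPoly N k j (MvPolynomial.C c) := rfl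
    rw [this]
    simp [ProjChart.ofPoly]
  have hχ : χ.comp (ProjChart.chartC N k j) = algebraMap k B := by
    rw [← hφ]
    ext c
    change φ ((ProjChart.chartEquiv N k j).symm (ProjChart.chartC N k j c)) = φ (MvPolynomial.C c)
    rw [hC]
  have hcoord : ∀ l, χ (ProjChart.coord N k j l) = φ (ProjChart.dehom N k j (MvPolynomial.X l)) := by
    intro l
    change φ ((ProjChart.chartEquiv N k j).symm (ProjChart.coord N k j l)) = _
    congr 1
    rw [RingEquiv.symm_apply_eq]
    have h0 : ∀ p, ProjChart.chartEquiv N k j p = ProjChart.ofPoly N k j p := fun _ => rfl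
    rw [h0]
    obtain rfl | ⟨m, rfl⟩ := Fin.eq_self_or_eq_succAbove j l
    · rw [ProjChart.dehom_X_self, map_one, ProjChart.coord_self]
    · rw [ProjChart.dehom_X]
      simp [ProjChart.ofPoly]
  have h1 := chart_hom_eq k j χ hχ
  have h2 : Spec.map (CommRingCat.ofHom φ) ≫ ProjSmooth.chart N k j =
      Spec.map (CommRingCat.ofHom χ) ≫ Groth.Agent.Sga7.H132.ProjPts.chart N k j := by
    have h3 : Spec.map (CommRingCat.ofHom χ) = Spec.map (CommRingCat.ofHom φ) ≫
        Spec.map (CommRingCat.ofHom (ProjChart.chartEquiv N k j).symm.toRingHom) := by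
      rw [← Spec.map_comp]
      rfl
    rw [h3, Category.assoc]
    rfl
  rw [h2]
  simp only [hcoord] at h1
  rw [pt, ← h1]

end Pt

section Glue

/-- A morphism out of two glued schemes is an isomorphism as soon as it is an open immersion on both parts,
surjective, and the overlap is the preimage of the overlap. -/
theorem isIso_desc {T X₁ X₂ Z : Scheme.{u}} (a : T ⟶ X₁) (b : T ⟶ X₂) [IsOpenImmersion a] [IsOpenImmersion b]
    (f₁ : X₁ ⟶ Z) (f₂ : X₂ ⟶ Z) [IsOpenImmersion f₁] [IsOpenImmersion f₂] (h : a ≫ f₁ = b ≫ f₂)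
    (hcov : ∀ z : Z, z ∈ Set.range f₁ ∨ z ∈ Set.range f₂)
    (hov : ∀ x : X₂, f₂ x ∈ Set.range f₁ → x ∈ Set.range b) :
    IsIso (K820.GlueTwo.desc (a := a) (b := b) f₁ f₂ h) := by
  let D := K820.GlueTwo.desc (a := a) (b := b) f₁ f₂ h
  have h1 : K820.GlueTwo.i₁ a b ≫ D = f₁ := K820.GlueTwo.i₁_desc _ _ _
  have h2 : K820.GlueTwo.i₂ a b ≫ D = f₂ := K820.GlueTwo.i₂_desc _ _ _
  have e1 : ∀ x, D (K820.GlueTwo.i₁ a b x) = f₁ x := fun x => by
    rw [← Scheme.Hom.comp_apply, h1]
  have e2 : ∀ x, D (K820.GlueTwo.i₂ a b x) = f₂ x := fun x => by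
    rw [← Scheme.Hom.comp_apply, h2]
  have hinj12 : ∀ (x : X₁) (y : X₂), f₁ x = f₂ y → K820.GlueTwo.i₁ a b x = K820.GlueTwo.i₂ a b y := by
    intro x y hxy
    obtain ⟨t, ht⟩ := hov y ⟨x, hxy⟩
    rw [K820.GlueTwo.eq_iff]
    refine ⟨t, ?_, ht⟩
    apply f₁.isOpenEmbedding.injective
    rw [hxy, ← ht, ← Scheme.Hom.comp_apply, ← Scheme.Hom.comp_apply, h]
  have hinj : Function.Injective D := by
    intro x y hxy
    rcases K820.GlueTwo.exists_preimage a b x with ⟨x', rfl⟩ | ⟨x', rfl⟩ <;>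
      rcases K820.GlueTwo.exists_preimage a b y with ⟨y', rfl⟩ | ⟨y', rfl⟩
    · rw [e1, e1] at hxy
      rw [f₁.isOpenEmbedding.injective hxy]
    · rw [e1, e2] at hxy
      exact hinj12 _ _ hxy
    · rw [e2, e1] at hxy
      exact (hinj12 _ _ hxy.symm).symm
    · rw [e2, e2] at hxy
      rw [f₂.isOpenEmbedding.injective hxy]
  have hopen : IsOpenMap D := by
    intro U hU
    have hU' : D '' U = (f₁ '' (K820.GlueTwo.i₁ a b ⁻¹' U)) ∪ (f₂ '' (K820.GlueTwo.i₂ a b ⁻¹' U)) := by
      ext z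
      constructor
      · rintro ⟨x, hx, rfl⟩
        rcases K820.GlueTwo.exists_preimage a b x with ⟨x', rfl⟩ | ⟨x', rfl⟩
        · exact Or.inl ⟨x', hx, (e1 x').symm⟩
        · exact Or.inr ⟨x', hx, (e2 x').symm⟩
      · rintro (⟨x, hx, rfl⟩ | ⟨x, hx, rfl⟩)
        · exact ⟨_, hx, e1 x⟩
        · exact ⟨_, hx, e2 x⟩
    rw [hU']
    exact (f₁.isOpenEmbedding.isOpenMap _ (hU.preimage (K820.GlueTwo.i₁ a b).continuous)).union
      (f₂.isOpenEmbedding.isOpenMap _ (hU.preimage (K820.GlueTwo.i₂ a b).continuous))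
  have hst : ∀ x, IsIso (D.stalkMap x) := by
    intro x
    rcases K820.GlueTwo.exists_preimage a b x with ⟨x', rfl⟩ | ⟨x', rfl⟩
    · have h3 : IsIso ((K820.GlueTwo.i₁ a b ≫ D).stalkMap x') := by rw [h1]; infer_instance
      rw [Scheme.Hom.stalkMap_comp] at h3
      exact @IsIso.of_isIso_comp_right _ _ _ _ _ (D.stalkMap (K820.GlueTwo.i₁ a b x'))
        ((K820.GlueTwo.i₁ a b).stalkMap x') inferInstance h3
    · have h3 : IsIso ((K820.GlueTwo.i₂ a b ≫ D).stalkMap x') := by rw [h2]; infer_instance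
      rw [Scheme.Hom.stalkMap_comp] at h3
      exact @IsIso.of_isIso_comp_right _ _ _ _ _ (D.stalkMap (K820.GlueTwo.i₂ a b x'))
        ((K820.GlueTwo.i₂ a b).stalkMap x') inferInstance h3
  have hemb : Topology.IsOpenEmbedding D := .of_continuous_injective_isOpenMap D.continuous hinj hopen
  have hoi : IsOpenImmersion D := IsOpenImmersion.of_isIso_stalkMap D hemb
  rw [isIso_iff_isOpenImmersion_and_surjective]
  refine ⟨hoi, ⟨fun z => ?_⟩⟩
  rcases hcov z with ⟨x, rfl⟩ | ⟨x, rfl⟩
  · exact ⟨_, e1 x⟩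
  · exact ⟨_, e2 x⟩

end Glue

section Main

variable {k : Type u} [Field k] (W : WeierstrassCurve k)

theorem pt_RL {g₁ : Spec (CommRingCat.of (RU W)) ⟶ (hypIdeal (form W)).subscheme}
    (h₁ : IsPullback (Spec.map (CommRingCat.ofHom (phiU W))) g₁ (ProjSmooth.chart 2 k 2)
      (hypIdeal (form W)).subschemeι)
    {g₂ : Spec (CommRingCat.of (RC W)) ⟶ (hypIdeal (form W)).subscheme}
    (h₂ : IsPullback (Spec.map (CommRingCat.ofHom (phiC W))) g₂ (ProjSmooth.chart 2 k 1)
      (hypIdeal (form W)).subschemeι) : jU W ≫ g₁ = jC W ≫ g₂ := by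
  rw [← cancel_mono (hypIdeal (form W)).subschemeι, Category.assoc, Category.assoc, ← h₁.w, ← h₂.w]
  let _ : Algebra k (RL W) := (iL W).toAlgebra
  rw [jU, jC, ← Category.assoc, ← Category.assoc, ← Spec.map_comp, ← Spec.map_comp, ← CommRingCat.ofHom_comp,
    ← CommRingCat.ofHom_comp]
  rw [specMap_chart ((algebraMap (RU W) (RL W)).comp (phiU W)) (by
      ext c
      change algebraMap (RU W) (RL W) (phiU W (MvPolynomial.C c)) = _
      rw [phiU_C]; rfl),
    specMap_chart ((resC W).comp (phiC W)) (by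
      ext c
      change resC W (phiC W (MvPolynomial.C c)) = _
      rw [phiC_C]
      exact congrArg (fun t : k →+* RL W => t c) (resC_comp W))]
  obtain ⟨a0, a1, a2⟩ := dX2 (k := k)
  obtain ⟨b0, b1, b2⟩ := dX1 (k := k)
  refine pt_smul k (yL W) (IsUnit.of_mul_eq_one (wL W) (by rw [mul_comm]; exact wL_mul W)) _ _ _ _ ?_ _ _
  intro l
  have hw := wL_mul W
  have hz := zL_mul W
  fin_cases l
  · change algebraMap (RU W) (RL W) (phiU W (ProjChart.dehom 2 k 2 (MvPolynomial.X 0))) =
      yL W * resC W (phiC W (ProjChart.dehom 2 k 1 (MvPolynomial.X 0)))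
    rw [a0, b0, phiU_X0, phiC_X0, resC, liftC_z, mul_comm, hz]
    rfl
  · change algebraMap (RU W) (RL W) (phiU W (ProjChart.dehom 2 k 2 (MvPolynomial.X 1))) =
      yL W * resC W (phiC W (ProjChart.dehom 2 k 1 (MvPolynomial.X 1)))
    rw [a1, b1, phiU_X1, map_one, map_one, mul_one]
    rfl
  · change algebraMap (RU W) (RL W) (phiU W (ProjChart.dehom 2 k 2 (MvPolynomial.X 2))) =
      yL W * resC W (phiC W (ProjChart.dehom 2 k 1 (MvPolynomial.X 2)))
    rw [a2, b2, phiC_X1, resC, liftC_w, mul_comm, hw, map_one, map_one]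

/-- Every point of the Weierstrass cubic lies in one of the two charts. -/
theorem mem_charts (y : (hypIdeal (form W)).subscheme) :
    (hypIdeal (form W)).subschemeι y ∈ LefPen.chart 2 k 2 ∨
      (hypIdeal (form W)).subschemeι y ∈ LefPen.chart 2 k 1 := by
  obtain ⟨j, z, hz⟩ := exists_chart_eq ((hypIdeal (form W)).subschemeι y)
  have hG : ProjChart.dehom 2 k j (form W).1 ∈ z.asIdeal := by
    rw [← chart_mem_range_hyp_iff, hz]
    exact ⟨y, rfl⟩
  have hmem : ∀ i, ProjChart.dehom 2 k j (MvPolynomial.X i) ∉ z.asIdeal →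
      (hypIdeal (form W)).subschemeι y ∈ LefPen.chart 2 k i := by
    intro i hi
    rw [← hz]
    exact (chart_mem_iff j i z).2 hi
  fin_cases j
  · left
    apply hmem
    intro h2
    apply (PrimeSpectrum.isPrime z).ne_top
    have hX : ProjChart.dehom 2 k 0 (MvPolynomial.X 0) = 1 := ProjChart.dehom_X_self _ _ _
    have h3 : ProjChart.dehom 2 k 0 (form W).1 +
        ProjChart.dehom 2 k 0 (MvPolynomial.X 2) * ProjChart.dehom 2 k 0 (-(MvPolynomial.X 1 ^ 2)
          - MvPolynomial.C W.a₁ * MvPolynomial.X 0 * MvPolynomial.X 1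
          - MvPolynomial.C W.a₃ * MvPolynomial.X 1 * MvPolynomial.X 2 + MvPolynomial.C W.a₂ * MvPolynomial.X 0 ^ 2
          + MvPolynomial.C W.a₄ * MvPolynomial.X 0 * MvPolynomial.X 2 + MvPolynomial.C W.a₆ * MvPolynomial.X 2 ^ 2) =
        -1 := by
      have h5 : (-1 : MvPolynomial (Fin 2) k) = ProjChart.dehom 2 k 0 (-(MvPolynomial.X 0) ^ 3) := by
        rw [map_neg, map_pow, hX, one_pow]
      rw [← map_mul, ← map_add, h5]
      congr 1
      simp only [form, poly]
      ring
    have h4 : (-1 : MvPolynomial (Fin 2) k) ∈ z.asIdeal := by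
      rw [← h3]
      exact Ideal.add_mem _ hG (Ideal.mul_mem_right _ _ h2)
    rw [Ideal.eq_top_iff_one]
    simpa using h4
  · right
    apply hmem
    intro h2
    apply (PrimeSpectrum.isPrime z).ne_top
    have hX : ProjChart.dehom 2 k 1 (MvPolynomial.X 1) = 1 := ProjChart.dehom_X_self _ _ _
    rw [Ideal.eq_top_iff_one, ← hX]
    exact h2
  · left
    apply hmem
    intro h2
    apply (PrimeSpectrum.isPrime z).ne_top
    have hX : ProjChart.dehom 2 k 2 (MvPolynomial.X 2) = 1 := ProjChart.dehom_X_self _ _ _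
    rw [Ideal.eq_top_iff_one, ← hX]
    exact h2

/-- **The Weierstrass model over a field is the plane Weierstrass cubic.** -/
theorem exists_iso : ∃ e : E W ≅ (hypIdeal (form W)).subscheme,
    e.hom ≫ (hypIdeal (form W)).subschemeι ≫ CohB1.ProjSpace.toSpec 2 k = str W := by
  obtain ⟨g₁, h₁⟩ := exists_chart_hyp (form W) 2 (phiU W) (phiU_surjective W) (ker_phiU W)
  obtain ⟨g₂, h₂⟩ := exists_chart_hyp (form W) 1 (phiC W) (phiC_surjective W) (ker_phiC W)
  have : IsOpenImmersion g₁ := MorphismProperty.of_isPullback h₁ inferInstance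
  have : IsOpenImmersion g₂ := MorphismProperty.of_isPullback h₂ inferInstance
  have hc := pt_RL W h₁ h₂
  have hiso : IsIso (K820.GlueTwo.desc (a := jU W) (b := jC W) g₁ g₂ hc) := by
    apply isIso_desc
    · intro z
      rcases mem_charts W z with h | h
      · exact Or.inl ((range_of_isPullback h₁ z).2 ((mem_range_chart 2 _).2 h))
      · exact Or.inr ((range_of_isPullback h₂ z).2 ((mem_range_chart 1 _).2 h))
    · intro x hx
      rw [range_of_isPullback h₁, mem_range_chart, ← Scheme.Hom.comp_apply, ← h₂.w,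
        Scheme.Hom.comp_apply] at hx
      rw [chart_mem_iff, (dX1 (k := k)).2.2] at hx
      have hx' : wC W ∉ PrimeSpectrum.asIdeal x := by
        intro h
        apply hx
        change MvPolynomial.X 1 ∈ Ideal.comap (phiC W) x.asIdeal
        rw [Ideal.mem_comap, phiC_X1]
        exact h
      let _ : Algebra (RC W) (RL W) := (resC W).toAlgebra
      have := isLocalization_resC W
      have h4 : x ∈ Set.range (PrimeSpectrum.comap (algebraMap (RC W) (RL W))) := by
        rw [PrimeSpectrum.localization_away_comap_range (RL W) (wC W)]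
        exact hx'
      exact h4
  refine ⟨@asIso _ _ _ _ _ hiso, ?_⟩
  change K820.GlueTwo.desc (a := jU W) (b := jC W) g₁ g₂ hc ≫ _ = str W
  apply pushout.hom_ext
  · have h5 : K820.GlueTwo.i₁ (jU W) (jC W) ≫ K820.GlueTwo.desc (a := jU W) (b := jC W) g₁ g₂ hc = g₁ :=
      K820.GlueTwo.i₁_desc _ _ _
    refine Eq.trans ((Category.assoc _ _ _).symm.trans (congrArg (· ≫ _) h5)) (Eq.trans ?_ (ιU_str W).symm)
    rw [← Category.assoc, ← h₁.w, Category.assoc, ProjSmooth.chart_toSpec, ← Spec.map_comp,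
      ← CommRingCat.ofHom_comp]
    congr 2
    ext c
    exact phiU_C W c
  · have h5 : K820.GlueTwo.i₂ (jU W) (jC W) ≫ K820.GlueTwo.desc (a := jU W) (b := jC W) g₁ g₂ hc = g₂ :=
      K820.GlueTwo.i₂_desc _ _ _
    refine Eq.trans ((Category.assoc _ _ _).symm.trans (congrArg (· ≫ _) h5)) (Eq.trans ?_ (ιC_str W).symm)
    rw [← Category.assoc, ← h₂.w, Category.assoc, ProjSmooth.chart_toSpec, ← Spec.map_comp,
      ← CommRingCat.ofHom_comp]
    congr 2
    ext c
    exact phiC_C W c

end Main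

end K423.WeierHyp
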