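import Groth.Agent.EllLift.K820.FieldIso

/-!
# A curve of genus one with a rational point over a field is a Weierstrass model
-/

set_option autoImplicit false
universe u

open CategoryTheory CategoryTheory.Limits AlgebraicGeometry Opposite TopologicalSpace

namespace K423.WeierMod

open Groth.Agent.Dix Groth.Agent.VarietyA.Ell Groth.Agent.Picfga.RegLocus Groth.Agent.Picfga.CurvePts
open Groth.Agent.Fdesc.LocGen (ores ores_ores)
open K820.EW

attribute [local instance] EllPoleData.algK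

variable {K : Type u} [Field K] {X : Scheme.{u}} [IsIntegral X] [X.Over (Spec (CommRingCat.of K))]

/-- Weierstrass coordinates (with respect to two opens) from pole data. -/
theorem exists_wCo {x : X} {U : X.Opens} [Nonempty U] (D : EllPole.PoleData K X.functionField)
    (hP : D.P = EllPoleData.pole K U) (hO : D.O = EllPoleData.regAt K x)
    (ht : ∃ t : X.presheaf.stalk x, t ∈ IsLocalRing.maximalIdeal (X.presheaf.stalk x) ∧
        D.t = algebraMap _ X.functionField t) :
    ∃ (W : WeierstrassCurve K) (V : X.Opens) (hV : x ∈ V) (c : WCo W (X ↘ Spec (CommRingCat.of K)) U V),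
      IsLocalRing.maximalIdeal (X.presheaf.stalk x) ≤ Ideal.span {X.presheaf.germ V x hV c.z} ∧
      X.presheaf.germ V x hV c.z ∈ IsLocalRing.maximalIdeal (X.presheaf.stalk x) ∧
      X.presheaf.germ V x hV c.w ∈ IsLocalRing.maximalIdeal (X.presheaf.stalk x) := by
  obtain ⟨s⟩ := EllPole.PoleData.nonempty_xy D
  obtain ⟨W, hW⟩ := s.exists_relation
  obtain ⟨t, ht, htD⟩ := ht
  obtain ⟨x₀, hx₀⟩ := (toP_bijective D hP).2 ⟨s.x, s.x_mem⟩
  obtain ⟨y₀, hy₀⟩ := (toP_bijective D hP).2 ⟨s.y, s.y_mem⟩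
  have hx₁ : X.germToFunctionField U x₀ = s.x := congrArg Subtype.val hx₀
  have hy₁ : X.germToFunctionField U y₀ = s.y := congrArg Subtype.val hy₀
  have ht0 : D.t ≠ 0 := D.t_ne_zero
  -- `m ≤ (t)`
  have hmt : IsLocalRing.maximalIdeal (X.presheaf.stalk x) ≤ Ideal.span {t} := by
    intro g hg
    have hgO : algebraMap (X.presheaf.stalk x) X.functionField g ∈ D.O := by rw [hO]; exact ⟨g, rfl⟩
    obtain ⟨c, h, hh, e⟩ := D.residue _ hgO
    rw [hO] at hh
    obtain ⟨h₀, hh₀⟩ := hh
    have hh₀' : algebraMap (X.presheaf.stalk x) X.functionField h₀ = h := hh₀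
    have h1 : g = X.presheaf.germ ⊤ x (Opens.mem_top _) (EllCech.str ⊤ c) + t * h₀ := by
      apply IsFractionRing.injective (X.presheaf.stalk x) X.functionField
      rw [map_add, map_mul, EllPoleData.algebraMap_str, ← htD, hh₀']
      exact e
    have hc : c = 0 := by
      by_contra hne
      have h2 : X.presheaf.germ ⊤ x (Opens.mem_top _) (EllCech.str ⊤ c) ∈
          IsLocalRing.maximalIdeal (X.presheaf.stalk x) := by
        have := Ideal.sub_mem _ hg (Ideal.mul_mem_right h₀ _ ht)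
        rwa [h1, add_sub_cancel_right] at this
      apply h2
      exact ((IsUnit.mk0 c hne).map (EllCech.str ⊤)).map (X.presheaf.germ ⊤ x (Opens.mem_top _)).hom
    rw [h1, hc, map_zero, map_zero, zero_add]
    exact Ideal.mul_mem_right _ _ (Ideal.mem_span_singleton_self _)
  -- `z` and `w`
  have key : ∀ {g : X.functionField} {n : ℕ}, D.LZ (-(n + 1 : ℕ)) g 1 →
      ∃ g' : X.presheaf.stalk x, ∃ u : (X.presheaf.stalk x)ˣ, g' = t ^ (n + 1) * u ∧
        algebraMap (X.presheaf.stalk x) X.functionField g' = g := by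
    intro g n h
    obtain ⟨h', hh', e⟩ := h
    rw [pow_zero, one_mul, map_one] at e
    rw [hO] at hh'
    obtain ⟨h₀, hh₀⟩ := hh'
    have hh₀' : algebraMap (X.presheaf.stalk x) X.functionField h₀ = h' := hh₀
    have hu : IsUnit (1 + t * h₀) := by
      by_contra hne
      have h1 : 1 + t * h₀ ∈ IsLocalRing.maximalIdeal (X.presheaf.stalk x) := hne
      have h2 := Ideal.sub_mem _ h1 (Ideal.mul_mem_right h₀ _ ht)
      rw [add_sub_cancel_right] at h2
      exact (Ideal.ne_top_iff_one _).1 (IsLocalRing.maximalIdeal.isMaximal _).ne_top h2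
    refine ⟨t ^ (n + 1) * (1 + t * h₀), hu.unit, rfl, ?_⟩
    rw [map_mul, map_pow, map_add, map_mul, map_one, ← htD, hh₀', ← e, ← mul_assoc, ← zpow_natCast,
      ← zpow_add₀ ht0]
    simp
  obtain ⟨z', uz, hz', hz⟩ := key (n := 0) (g := s.ξ) s.lz_ξ
  obtain ⟨w', uw, hw', hw⟩ := key (n := 2) (g := s.ζ) s.lz_ζ
  have hmem : x ∈ reg s.ξ ⊓ reg s.ζ := ⟨⟨z', hz⟩, ⟨w', hw⟩⟩
  have hne : Nonempty (reg s.ξ ⊓ reg s.ζ : X.Opens) := ⟨⟨_, hmem⟩⟩
  have hne' : Nonempty (U ⊓ (reg s.ξ ⊓ reg s.ζ) : X.Opens) :=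
    ⟨⟨_, genericPoint_mem U, genericPoint_mem (reg s.ξ ⊓ reg s.ζ)⟩⟩
  have hgz : X.germToFunctionField (reg s.ξ ⊓ reg s.ζ) (ores inf_le_left (sec s.ξ)) = s.ξ := by
    rw [EllPoleData.germ_res, germToFunctionField_sec]
  have hgw : X.germToFunctionField (reg s.ξ ⊓ reg s.ζ) (ores inf_le_right (sec s.ζ)) = s.ζ := by
    rw [EllPoleData.germ_res, germToFunctionField_sec]
  have hinf := s.infEq hW
  have g1 : X.presheaf.germ (reg s.ξ ⊓ reg s.ζ) x hmem (ores inf_le_left (sec s.ξ)) = z' := by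
    apply IsFractionRing.injective (X.presheaf.stalk x) X.functionField
    rw [X.algebraMap_germ_eq_germToFunctionField, hgz, hz]
  have g2 : X.presheaf.germ (reg s.ξ ⊓ reg s.ζ) x hmem (ores inf_le_right (sec s.ζ)) = w' := by
    apply IsFractionRing.injective (X.presheaf.stalk x) X.functionField
    rw [X.algebraMap_germ_eq_germToFunctionField, hgw, hw]
  let c : WCo W (X ↘ Spec (CommRingCat.of K)) U (reg s.ξ ⊓ reg s.ζ) :=
    { x := x₀
      y := y₀
      z := ores inf_le_left (sec s.ξ)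
      w := ores inf_le_right (sec s.ζ)
      eqU := by
        apply X.germToFunctionField_injective U
        simp only [sc_eq_str, map_add, map_mul, map_pow, EllPoleData.germ_str, hx₁, hy₁]
        exact hW
      eqV := by
        apply X.germToFunctionField_injective (reg s.ξ ⊓ reg s.ζ)
        simp only [sc_eq_str, map_add, map_mul, map_pow, EllPoleData.germ_str, hgz, hgw]
        exact hinf
      rel_w := by
        apply X.germToFunctionField_injective (U ⊓ (reg s.ξ ⊓ reg s.ζ))
        rw [map_mul, map_one]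
        refine (congrArg₂ (· * ·) ((EllPoleData.germ_res inf_le_right _).trans hgw)
          ((EllPoleData.germ_res inf_le_left y₀).trans hy₁)).trans ?_
        exact inv_mul_cancel₀ s.y_ne_zero
      rel_z := by
        apply X.germToFunctionField_injective (U ⊓ (reg s.ξ ⊓ reg s.ζ))
        rw [map_mul]
        refine (congrArg₂ (· * ·) ((EllPoleData.germ_res inf_le_right _).trans hgz)
          ((EllPoleData.germ_res inf_le_left y₀).trans hy₁)).trans
          (Eq.trans ?_ ((EllPoleData.germ_res inf_le_left x₀).trans hx₁).symm)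
        change s.x * s.y⁻¹ * s.y = s.x
        rw [mul_assoc, inv_mul_cancel₀ s.y_ne_zero, mul_one] }
  refine ⟨W, reg s.ξ ⊓ reg s.ζ, hmem, c, ?_, ?_, ?_⟩
  · change _ ≤ Ideal.span {X.presheaf.germ (reg s.ξ ⊓ reg s.ζ) x hmem (ores inf_le_left (sec s.ξ))}
    rw [g1, hz']
    refine hmt.trans ?_
    rw [Ideal.span_singleton_le_iff_mem, Ideal.mem_span_singleton]
    refine ⟨↑uz⁻¹, ?_⟩
    rw [zero_add, pow_one, mul_assoc, Units.mul_inv, mul_one]
  · change X.presheaf.germ (reg s.ξ ⊓ reg s.ζ) x hmem (ores inf_le_left (sec s.ξ)) ∈ _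
    rw [g1, hz']
    exact Ideal.mul_mem_right _ _ (Ideal.pow_mem_of_mem _ ht _ (Nat.succ_pos _))
  · change X.presheaf.germ (reg s.ξ ⊓ reg s.ζ) x hmem (ores inf_le_right (sec s.ζ)) ∈ _
    rw [g2, hw']
    exact Ideal.mul_mem_right _ _ (Ideal.pow_mem_of_mem _ ht _ (Nat.succ_pos _))

/-- **A smooth proper integral curve of genus one with a rational point is a Weierstrass model.** -/
theorem exists_iso [IsProper (X ↘ Spec (CommRingCat.of K))] [Smooth (X ↘ Spec (CommRingCat.of K))]
    (hdim : topologicalKrullDim X = 1)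
    (hg : Module.finrank K (Coh.HH X (Coh.structureModule X) 1) = 1)
    (o : Spec (CommRingCat.of K) ⟶ X) (ho : o ≫ (X ↘ Spec (CommRingCat.of K)) = 𝟙 _) :
    ∃ (W : WeierstrassCurve K) (e : X ≅ E W), e.hom ≫ str W = X ↘ Spec (CommRingCat.of K) := by
  let x : X := o (IsLocalRing.closedPoint K)
  have hx : ∀ p, o p = x := fun p => by
    rw [show p = IsLocalRing.closedPoint K from Subsingleton.elim (α := PrimeSpectrum K) _ _]
  obtain ⟨U, _, D, hUa, hU, hP, hO, ht⟩ := EllPoleData.exists_poleData (K := K) hdim hg o ho x hx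
  obtain ⟨W, V, hV, c, h1, h2, h3⟩ := exists_wCo D hP hO ht
  have hUV : U ⊔ V = ⊤ := by
    rw [eq_top_iff]
    intro y _
    by_cases hy : y = x
    · rw [hy]; exact Or.inr hV
    · exact Or.inl ((hU y).2 hy)
  have hiso := K820.FieldIso.isIso_hom hdim hg o ho (x := ⟨x, hV⟩) hx hU hUV c h1 h2 h3
  exact ⟨W, @asIso _ _ _ _ _ hiso, c.hom_str hUV⟩

end K423.WeierMod
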